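import Groth.Agent.GrpSmooth.Deriv
import Mathlib

/-!
# Group schemes locally of finite type in characteristic zero are smooth
-/

set_option autoImplicit false
universe u

open CategoryTheory MonoidalCategory CartesianMonoidalCategory MonObj GrpObj AlgebraicGeometry

namespace Groth.Agent.GrpSmooth

lemma ptDeriv_one {K A : Type u} [Field K] [CommRing A] [Algebra K A] {ε : A →ₐ[K] K}
    {l : A →ₗ[K] K} (hl : IsPtDeriv ε l) : l 1 = 0 := by
  have h := hl 1 1
  rw [_root_.mul_one, map_one ε, _root_.one_mul] at h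
  exact (left_eq_add (a := l 1)).mp h

/-- A point derivation as a ring map to dual numbers. -/
noncomputable def dualPt {K A : Type u} [Field K] [CommRing A] [Algebra K A] (ε : A →ₐ[K] K)
    (l : A →ₗ[K] K) (hl : IsPtDeriv ε l) : A →+* DualNumber A where
  toFun a := TrivSqZeroExt.inl (algebraMap K A (ε a)) + TrivSqZeroExt.inr (algebraMap K A (l a))
  map_one' := by
    ext <;> simp [ptDeriv_one hl]
  map_mul' a b := by
    ext
    · simp
    · simp only [TrivSqZeroExt.snd_mul, TrivSqZeroExt.fst_add, TrivSqZeroExt.snd_add, TrivSqZeroExt.fst_inl,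
        TrivSqZeroExt.snd_inl, TrivSqZeroExt.fst_inr, TrivSqZeroExt.snd_inr, add_zero, zero_add, smul_eq_mul,
        MulOpposite.smul_eq_mul_unop, MulOpposite.unop_op, hl a b, map_add, map_mul]
      ring
  map_zero' := by ext <;> simp
  map_add' a b := by ext <;> simp [map_add, Algebra.smul_def]

/-- Coefficientwise map of dual numbers. -/
noncomputable def dualMap {A B : Type u} [CommRing A] [CommRing B] (f : A →+* B) :
    DualNumber A →+* DualNumber B where
  toFun x := TrivSqZeroExt.inl (f x.fst) + TrivSqZeroExt.inr (f x.snd)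
  map_one' := by ext <;> simp
  map_mul' x y := by
    ext
    · simp
    · simp [map_add, map_mul]
  map_zero' := by ext <;> simp
  map_add' x y := by ext <;> simp [map_add, Algebra.smul_def]

variable {K : Type u} [Field K] (G : Over (Spec (CommRingCat.of K))) [GrpObj G]

/-- Near the origin, point derivations extend to derivations. -/
theorem exists_chart (U : G.left.Opens) (hU : IsAffineOpen U)
    (he : η[G].left (IsLocalRing.closedPoint K) ∈ U) :
    ∃ (_ : Algebra K Γ(G.left, U)) (ε : Γ(G.left, U) →ₐ[K] K),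
      Spec.map (CommRingCat.ofHom ε.toRingHom) ≫ hU.fromSpec = η[G].left ∧ HasDer ε := by
  let S : Scheme.{u} := Spec (CommRingCat.of K)
  let A : CommRingCat.{u} := Γ(G.left, U)
  let ρ : CommRingCat.of K ⟶ A := Spec.preimage (hU.fromSpec ≫ G.hom)
  have hρ : Spec.map ρ = hU.fromSpec ≫ G.hom := Spec.map_preimage _
  let _ : Algebra K A := ρ.hom.toAlgebra
  let e : S ⟶ G.left := η[G].left
  have heq : e ≫ G.hom = 𝟙 _ := Over.w η[G]
  have hre : Set.range e ⊆ Set.range hU.fromSpec := by
    rw [hU.range_fromSpec]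
    rintro _ ⟨x, rfl⟩
    rw [Subsingleton.elim (α := PrimeSpectrum K) x (IsLocalRing.closedPoint K)]
    exact he
  let ε₀ : A ⟶ CommRingCat.of K := Spec.preimage (IsOpenImmersion.lift hU.fromSpec e hre)
  have hε₀ : Spec.map ε₀ ≫ hU.fromSpec = e := by
    rw [Spec.map_preimage, IsOpenImmersion.lift_fac]
  have hcomp : ρ ≫ ε₀ = 𝟙 _ := Spec.map_injective (by
    rw [Spec.map_comp, hρ, reassoc_of% hε₀, heq, Spec.map_id])
  let ε : A →ₐ[K] K :=
    { ε₀.hom with commutes' := fun c => congrArg (fun f => f.hom c) hcomp }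
  refine ⟨inferInstance, ε, hε₀, fun l hl => ?_⟩
  let R : CommRingCat.{u} := CommRingCat.of (DualNumber A)
  let inlA : A ⟶ R := CommRingCat.ofHom (TrivSqZeroExt.inlHom A A)
  let fstA : R ⟶ A := CommRingCat.ofHom (TrivSqZeroExt.fstHom A A A).toRingHom
  let χ : A ⟶ R := CommRingCat.ofHom (dualPt ε l hl)
  have hinlfst : inlA ≫ fstA = 𝟙 _ := by ext a; rfl
  have hl0 : ∀ c : K, l (algebraMap K A c) = 0 := fun c => by
    rw [Algebra.algebraMap_eq_smul_one, map_smul, ptDeriv_one hl, smul_zero]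
  have hρχ : ρ ≫ χ = ρ ≫ inlA := by
    refine CommRingCat.hom_ext (RingHom.ext fun c => ?_)
    show dualPt ε l hl (algebraMap K A c) = TrivSqZeroExt.inl (algebraMap K A c)
    simp [dualPt, hl0]
  let T : Over S := Over.mk (Spec.map (ρ ≫ inlA))
  let g : T ⟶ G := Over.homMk (Spec.map inlA ≫ hU.fromSpec) (by
    show (Spec.map inlA ≫ hU.fromSpec) ≫ G.hom = Spec.map (ρ ≫ inlA)
    rw [Category.assoc, ← hρ, Spec.map_comp])
  let v : T ⟶ G := Over.homMk (Spec.map χ ≫ hU.fromSpec) (by
    show (Spec.map χ ≫ hU.fromSpec) ≫ G.hom = Spec.map (ρ ≫ inlA)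
    rw [Category.assoc, ← hρ, ← Spec.map_comp, hρχ])
  let m : T ⟶ G := g * v
  let T₀ : Over S := Over.mk (Spec.map ρ)
  let i : T₀ ⟶ T := Over.homMk (Spec.map fstA) (by
    simp only [T, T₀, Over.mk_hom, ← Spec.map_comp, Category.assoc, hinlfst, Category.comp_id])
  let g₀ : T₀ ⟶ G := Over.homMk hU.fromSpec hρ.symm
  have hig : i ≫ g = g₀ := by
    ext : 1
    show Spec.map fstA ≫ Spec.map inlA ≫ hU.fromSpec = hU.fromSpec
    rw [← Category.assoc, ← Spec.map_comp, hinlfst, Spec.map_id, Category.id_comp]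
  have hiv : i ≫ v = 1 := by
    ext : 1
    show Spec.map fstA ≫ Spec.map χ ≫ hU.fromSpec = (toUnit T₀).left ≫ η[G].left
    have : χ ≫ fstA = ε₀ ≫ ρ := by
      ext a
      show (dualPt ε l hl a).fst = algebraMap K A (ε a)
      simp [dualPt]
    rw [← Category.assoc, ← Spec.map_comp, this, Spec.map_comp, Category.assoc, hε₀]
    rfl
  have him : i ≫ m = g₀ := by rw [comp_mul, hig, hiv, _root_.mul_one]
  have hrm : Set.range m.left ⊆ Set.range hU.fromSpec := by
    rintro _ ⟨x, rfl⟩
    obtain ⟨y, rfl⟩ : ∃ y, Spec.map fstA y = x := by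
      refine ⟨PrimeSpectrum.comap inlA.hom x, PrimeSpectrum.ext ?_⟩
      ext r
      show TrivSqZeroExt.inl r.fst ∈ x.asIdeal ↔ r ∈ x.asIdeal
      have hn : TrivSqZeroExt.inr r.snd ∈ x.asIdeal := x.isPrime.mem_of_pow_mem 2 (by
        rw [pow_two, TrivSqZeroExt.inr_mul_inr]; exact x.asIdeal.zero_mem)
      conv_rhs => rw [← TrivSqZeroExt.inl_fst_add_inr_snd_eq r]
      exact (Ideal.add_mem_iff_left _ hn).symm
    exact ⟨y, (congrArg (fun f : T₀ ⟶ G => f.left y) him).symm⟩
  let ψ : A ⟶ R := Spec.preimage (IsOpenImmersion.lift hU.fromSpec m.left hrm)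
  have hψ : Spec.map ψ ≫ hU.fromSpec = m.left := by
    rw [Spec.map_preimage, IsOpenImmersion.lift_fac]
  have hψ₀ : ψ ≫ fstA = 𝟙 _ := Spec.map_injective (by
    rw [← cancel_mono hU.fromSpec, Spec.map_comp, Category.assoc, hψ, Spec.map_id, Category.id_comp]
    exact congrArg (fun f : T₀ ⟶ G => f.left) him)
  have hψρ : ρ ≫ ψ = ρ ≫ inlA := Spec.map_injective (by
    rw [Spec.map_comp, hρ, reassoc_of% hψ]
    exact Over.w m)
  have hfst : ∀ a, (ψ.hom a).fst = a := fun a => congrArg (fun f => f.hom a) hψ₀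
  let D : A →ₗ[K] A :=
    { toFun := fun a => (ψ.hom a).snd
      map_add' := fun a b => by rw [map_add]; rfl
      map_smul' := fun c a => by
        have hc : ψ.hom (algebraMap K A c) = TrivSqZeroExt.inl (algebraMap K A c) :=
          congrArg (fun f => f.hom c) hψρ
        rw [Algebra.smul_def, map_mul, hc, Algebra.smul_def, TrivSqZeroExt.snd_mul]
        simp [smul_eq_mul, MulOpposite.smul_eq_mul_unop] }
  refine ⟨D, fun a b => ?_, fun a => ?_⟩
  · show (ψ.hom (a * b)).snd = (ψ.hom a).snd * b + a * (ψ.hom b).snd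
    rw [map_mul, TrivSqZeroExt.snd_mul, hfst, hfst, smul_eq_mul, MulOpposite.smul_eq_mul_unop, MulOpposite.unop_op]
    ring
  · let RK : CommRingCat.{u} := CommRingCat.of (DualNumber K)
    let φ : R ⟶ RK := CommRingCat.ofHom (dualMap ε.toRingHom)
    let inlK : CommRingCat.of K ⟶ RK := CommRingCat.ofHom (TrivSqZeroExt.inlHom K K)
    have hφinl : inlA ≫ φ = ε₀ ≫ inlK := by
      refine CommRingCat.hom_ext (RingHom.ext fun b => ?_)
      show dualMap ε.toRingHom (TrivSqZeroExt.inl b) = TrivSqZeroExt.inl (ε b)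
      ext <;> simp [dualMap]
    let W : Over S := Over.mk (Spec.map inlK)
    let j : W ⟶ T := Over.homMk (Spec.map φ) (by
      simp only [T, W, Over.mk_hom, ← Spec.map_comp, Category.assoc, hφinl]
      rw [reassoc_of% hcomp])
    have hjg : j ≫ g = 1 := by
      ext : 1
      show Spec.map φ ≫ Spec.map inlA ≫ hU.fromSpec = (toUnit W).left ≫ η[G].left
      rw [← Category.assoc, ← Spec.map_comp, hφinl, Spec.map_comp, Category.assoc, hε₀]
      rfl
    have hjm : j ≫ m = j ≫ v := by rw [comp_mul, hjg, _root_.one_mul]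
    have h : ψ ≫ φ = χ ≫ φ := Spec.map_injective (by
      rw [← cancel_mono hU.fromSpec, Spec.map_comp, Category.assoc, hψ, Spec.map_comp, Category.assoc]
      exact congrArg (fun f : W ⟶ G => f.left) hjm)
    have := congrArg (fun f => (f.hom a).snd) h
    show ε (ψ.hom a).snd = l a
    simpa [φ, χ, dualMap, dualPt] using this

variable [CharZero K] [LocallyOfFiniteType G.hom]

/-- Cartier: in characteristic zero, a group scheme is reduced near the origin. -/
theorem exists_reduced_nhbd :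
    ∃ V : G.left.Opens, η[G].left (IsLocalRing.closedPoint K) ∈ V ∧ IsReduced (V : Scheme.{u}) := by
  obtain ⟨_, ⟨U, hU, rfl⟩, he, -⟩ := G.left.isBasis_affineOpens.exists_subset_of_mem_open
    (Set.mem_univ (η[G].left (IsLocalRing.closedPoint K))) isOpen_univ
  obtain ⟨_, ε, hε, hder⟩ := exists_chart G U hU he
  have : IsLocallyNoetherian G.left := LocallyOfFiniteType.isLocallyNoetherian G.hom
  have : IsNoetherianRing Γ(G.left, U) := IsLocallyNoetherian.component_noetherian ⟨U, hU⟩
  obtain ⟨F, hF⟩ := (inferInstance : IsNoetherian Γ(G.left, U) Γ(G.left, U)).noetherian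
    (nilradical Γ(G.left, U))
  have hnil : ∀ x ∈ F, IsNilpotent x := fun x hx => mem_nilradical.mp (hF ▸ Submodule.subset_span hx)
  choose t ht ht' using fun x : F => exists_smul_eq_zero_of_isNilpotent hder (hnil x.1 x.2)
  let s := ∏ x : F, t x
  have hs : ε s ≠ 0 := by
    simp only [s, map_prod]
    exact Finset.prod_ne_zero_iff.mpr fun x _ => ht x
  have hkill : ∀ x ∈ nilradical Γ(G.left, U), s * x = 0 := by
    intro x hx
    rw [← hF] at hx
    induction hx using Submodule.span_induction with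
    | mem y hy =>
      obtain ⟨c, hc⟩ : t ⟨y, hy⟩ ∣ s := Finset.dvd_prod_of_mem t (Finset.mem_univ _)
      rw [hc, mul_comm (t ⟨y, hy⟩) c, _root_.mul_assoc, ht' ⟨y, hy⟩, MulZeroClass.mul_zero]
    | zero => rw [MulZeroClass.mul_zero]
    | add p q _ _ hp hq => rw [mul_add, hp, hq, add_zero]
    | smul c p _ hp => rw [smul_eq_mul, mul_left_comm, hp, MulZeroClass.mul_zero]
  have : _root_.IsReduced Γ(G.left, G.left.basicOpen s) := by
    have := hU.isLocalization_basicOpen s
    refine ⟨fun z hz => ?_⟩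
    obtain ⟨x, ⟨_, n, rfl⟩, rfl⟩ := IsLocalization.exists_mk'_eq (Submonoid.powers s) z
    obtain ⟨N, hN⟩ := hz
    rw [← IsLocalization.mk'_pow, IsLocalization.mk'_eq_zero_iff] at hN
    obtain ⟨⟨_, M, rfl⟩, hM⟩ := hN
    have hnilp : s ^ M * x ∈ nilradical Γ(G.left, U) := by
      refine mem_nilradical.mpr ⟨N + 1, ?_⟩
      calc (s ^ M * x) ^ (N + 1) = (s ^ M) ^ N * x * (s ^ M * x ^ N) := by ring
        _ = 0 := by rw [show s ^ M * x ^ N = 0 from hM, MulZeroClass.mul_zero]
    rw [IsLocalization.mk'_eq_zero_iff]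
    exact ⟨⟨s ^ (M + 1), M + 1, rfl⟩, show s ^ (M + 1) * x = 0 by rw [pow_succ', _root_.mul_assoc]; exact hkill _ hnilp⟩
  refine ⟨G.left.basicOpen s, ?_, isReduced_of_isOpenImmersion (hU.basicOpen s).isoSpec.hom⟩
  rw [← hε]
  show (IsLocalRing.closedPoint K) ∈ (Spec.map (CommRingCat.ofHom ε.toRingHom) ≫ hU.fromSpec) ⁻¹ᵁ G.left.basicOpen s
  rw [Scheme.Hom.comp_preimage, hU.fromSpec_preimage_basicOpen]
  show s ∉ Ideal.comap ε.toRingHom (IsLocalRing.maximalIdeal K)
  simp [IsLocalRing.maximalIdeal_eq_bot, hs]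


/-- Over an algebraically closed field of characteristic zero. -/
theorem smooth_of_isAlgClosed [IsAlgClosed K] : Smooth G.hom := by
  have : JacobsonSpace G.left := LocallyOfFiniteType.jacobsonSpace G.hom
  obtain ⟨V, heV, hV⟩ := exists_reduced_nhbd G
  have hne : (G.hom.smoothLocus : Set G.left).Nonempty := by
    have : Nonempty (V : Scheme.{u}) := ⟨⟨_, heV⟩⟩
    obtain ⟨y, hy⟩ := (V.ι ≫ G.hom).dense_smoothLocus_of_perfectField.nonempty
    refine ⟨V.ι y, ?_⟩
    rwa [← Scheme.Hom.preimage_smoothLocus_eq] at hy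
  rw [← Scheme.Hom.smoothLocus_eq_top_iff, ← TopologicalSpace.Opens.coe_eq_univ,
    ← not_ne_iff, ← Set.nonempty_compl]
  intro H
  obtain ⟨x, hx, hxc⟩ :=
    nonempty_inter_closedPoints H G.hom.smoothLocus.2.isClosed_compl.isLocallyClosed
  obtain ⟨y, hy : y ∈ G.hom.smoothLocus, hyc⟩ :=
    nonempty_inter_closedPoints hne G.hom.smoothLocus.2.isLocallyClosed
  let x' : 𝟙_ _ ⟶ G := Over.homMk _ ((pointEquivClosedPoint G.hom).symm ⟨x, hxc⟩).2
  let y' : 𝟙_ _ ⟶ G := Over.homMk _ ((pointEquivClosedPoint G.hom).symm ⟨y, hyc⟩).2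
  let α := (GrpObj.mulRight (A := G) x').symm ≪≫ (GrpObj.mulRight (A := G) y')
  have hα : x' ≫ α.hom = y' := by
    dsimp only [Iso.trans_hom, Iso.symm_hom, α]
    rw [← Category.assoc, ← Iso.eq_comp_inv]
    simp [comp_lift_assoc]
  have hα' : α.hom.left x = y := by
    simpa [x', y', pointEquivClosedPoint] using congr(($hα).left (IsLocalRing.closedPoint K))
  rw! [← hα', ← α.hom.left.mem_preimage, Scheme.Hom.preimage_smoothLocus_eq,
    show α.hom.left ≫ G.hom = G.hom from α.hom.w] at hy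
  exact hx hy

/-- A group scheme locally of finite type over a field of characteristic zero is smooth. -/
theorem smooth_of_charZero : Smooth G.hom := by
  let Ω : Type u := AlgebraicClosure K
  let g : Spec (.of Ω) ⟶ Spec (.of K) := Spec.map (CommRingCat.ofHom <| algebraMap K Ω)
  have : MorphismProperty.DescendsAlong @Smooth (@Surjective ⊓ @Flat ⊓ @QuasiCompact : MorphismProperty Scheme.{u}) :=
    HasRingHomProperty.descendsAlong_flat RingHom.Smooth.codescendsAlong_faithfullyFlat
  apply MorphismProperty.of_pullback_snd_of_descendsAlong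
    (P := @Smooth) (Q := @Surjective ⊓ @Flat ⊓ @QuasiCompact) (g := g)
  · exact ⟨⟨inferInstance, inferInstance⟩, inferInstance⟩
  · let G' := (Over.pullback g).obj G
    let : GrpObj G' := Functor.grpObjObj
    have : LocallyOfFiniteType G'.hom := by dsimp [G']; infer_instance
    have : CharZero Ω := charZero_of_injective_algebraMap (algebraMap K Ω).injective
    exact smooth_of_isAlgClosed G'

end Groth.Agent.GrpSmooth
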